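import Mathlib

set_option autoImplicit false
universe u

namespace Groth.Agent.Helper5.HilbZ

open PowerSeries

variable {k : Type u} [Field k]

theorem exists_mul_of_order (φ ψ : k⟦X⟧) (l c : ℕ) (hφ : φ.order = (l : ℕ∞))
    (hψ : ((l + c : ℕ) : ℕ∞) ≤ ψ.order) : ∃ t : k⟦X⟧, ψ = φ * t ∧ (c : ℕ∞) ≤ t.order := by
  have hφ0 : φ ≠ 0 := by
    intro h; rw [h, order_zero] at hφ; exact ENat.top_ne_natCast l hφ
  have hw : IsUnit (divXPowOrder φ) := by
    rw [PowerSeries.isUnit_iff_constantCoeff, isUnit_iff_ne_zero, Ne,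
      constantCoeff_divXPowOrder_eq_zero_iff]
    exact hφ0
  have hφeq : X ^ l * divXPowOrder φ = φ := by
    have := X_pow_order_mul_divXPowOrder (f := φ)
    rw [hφ] at this
    simpa using this
  obtain ⟨h, hh⟩ : X ^ (l + c) ∣ ψ := by
    rw [PowerSeries.X_pow_dvd_iff]
    intro m hm
    apply coeff_of_lt_order
    refine lt_of_lt_of_le ?_ hψ
    exact_mod_cast hm
  obtain ⟨w', hw'⟩ := hw.exists_right_inv
  refine ⟨X ^ c * h * w', ?_, ?_⟩
  · rw [hh, ← hφeq]
    calc X ^ (l + c) * h = X ^ l * (divXPowOrder φ * w') * (X ^ c * h) := by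
          rw [hw', pow_add]; ring
      _ = X ^ l * divXPowOrder φ * (X ^ c * h * w') := by ring
  · rw [mul_assoc, order_mul, order_X_pow]
    exact le_self_add


theorem s15146 (s : ℕ) (R : Subalgebra k (Fin s → PowerSeries k)) (c : Fin s → ℕ)
    (hc : ∀ f : Fin s → PowerSeries k,
      (∀ g : Fin s → PowerSeries k, g * f ∈ R) ↔ ∀ i, ((c i : ℕ) : ℕ∞) ≤ (f i).order)
    (J : Ideal ↥R)
    (l : Fin s → ℕ) (hl : ∀ i : Fin s, ∃ f ∈ J, ((f : Fin s → PowerSeries k) i).order = ((l i : ℕ) : ℕ∞))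
    (g : Fin s → PowerSeries k) (hg : ∀ i : Fin s, ((l i + c i : ℕ) : ℕ∞) ≤ (g i).order) :
    ∃ hgR : g ∈ R, (⟨g, hgR⟩ : ↥R) ∈ J := by
  classical
  choose f hfJ hfl using hl
  have ht : ∀ i, ∃ t : PowerSeries k,
      g i = (f i : Fin s → PowerSeries k) i * t ∧ ((c i : ℕ) : ℕ∞) ≤ t.order :=
    fun i => exists_mul_of_order _ _ _ _ (hfl i) (hg i)
  choose t htg htc using ht
  have hTR : ∀ i, (Pi.single i (t i) : Fin s → PowerSeries k) ∈ R := by
    intro i
    have := (hc (Pi.single i (t i))).2 (by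
      intro j
      by_cases hj : j = i
      · subst hj; simpa using htc j
      · rw [Pi.single_eq_of_ne hj, PowerSeries.order_zero]; exact le_top)
    simpa using this 1
  have hval : ((∑ i, f i * ⟨Pi.single i (t i), hTR i⟩ : ↥R) : Fin s → PowerSeries k) = g := by
    rw [AddSubmonoidClass.coe_finsetSum]
    funext j
    rw [Finset.sum_apply, Finset.sum_eq_single j]
    · simp [htg j]
    · intro i _ hij
      simp [Pi.single_eq_of_ne (Ne.symm hij)]
    · simp
  have hmem : (∑ i, f i * ⟨Pi.single i (t i), hTR i⟩ : ↥R) ∈ J :=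
    J.sum_mem (fun i _ => J.mul_mem_right _ (hfJ i))
  have hgR : g ∈ R := hval ▸ SetLike.coe_mem _
  refine ⟨hgR, ?_⟩
  have : (⟨g, hgR⟩ : ↥R) = ∑ i, f i * ⟨Pi.single i (t i), hTR i⟩ := Subtype.ext hval.symm
  rw [this]
  exact hmem


theorem le_order_of_X_pow_dvd (φ : k⟦X⟧) (a : ℕ) (h : (X : k⟦X⟧) ^ a ∣ φ) : (a : ℕ∞) ≤ φ.order := by
  obtain ⟨q, rfl⟩ := h
  rw [order_mul, order_X_pow]
  exact le_self_add

theorem s15147 (s : ℕ) (R : Subalgebra k (Fin s → PowerSeries k)) (c : Fin s → ℕ)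
    (hc : ∀ f : Fin s → PowerSeries k,
      (∀ g : Fin s → PowerSeries k, g * f ∈ R) ↔ ∀ i, ((c i : ℕ) : ℕ∞) ≤ (f i).order)
    (I : Ideal ↥R) (a : Fin s → ℕ)
    (ha : (∀ i : Fin s, Ideal.map ((Pi.evalAlgHom k (fun _ : Fin s => PowerSeries k) i).comp R.val) I
      = Ideal.span {PowerSeries.X ^ (a i)})) :
    (∀ g : Fin s → PowerSeries k, (∀ i : Fin s, ((a i + c i : ℕ) : ℕ∞) ≤ (g i).order) →
      ∃ hgR : g ∈ R, (⟨g, hgR⟩ : ↥R) ∈ I) ∧
    (∀ f ∈ I, ∀ i : Fin s, ((a i : ℕ) : ℕ∞) ≤ ((f : Fin s → PowerSeries k) i).order) := by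
  classical
  have h2 : ∀ f ∈ I, ∀ i : Fin s, ((a i : ℕ) : ℕ∞) ≤ ((f : Fin s → PowerSeries k) i).order := by
    intro f hf i
    have : ((Pi.evalAlgHom k (fun _ : Fin s => PowerSeries k) i).comp R.val) f ∈
        Ideal.map ((Pi.evalAlgHom k (fun _ : Fin s => PowerSeries k) i).comp R.val) I :=
      Ideal.mem_map_of_mem _ hf
    rw [ha i, Ideal.mem_span_singleton] at this
    exact le_order_of_X_pow_dvd _ _ this
  refine ⟨?_, h2⟩
  have hl : ∀ i : Fin s, ∃ f ∈ I, ((f : Fin s → PowerSeries k) i).order = ((a i : ℕ) : ℕ∞) := by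
    intro i
    by_contra hne
    push Not at hne
    have hle : Ideal.map ((Pi.evalAlgHom k (fun _ : Fin s => PowerSeries k) i).comp R.val) I ≤
        Ideal.span {PowerSeries.X ^ (a i + 1)} := by
      rw [Ideal.map_le_iff_le_comap]
      intro f hf
      rw [Ideal.mem_comap, Ideal.mem_span_singleton, PowerSeries.X_pow_dvd_iff]
      intro m hm
      apply coeff_of_lt_order
      have h1 := h2 f hf i
      have h3 := hne f hf
      have h4 : ((a i : ℕ) : ℕ∞) < ((f : Fin s → PowerSeries k) i).order := lt_of_le_of_ne h1 (Ne.symm h3)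
      show (m : ℕ∞) < ((f : Fin s → PowerSeries k) i).order
      refine lt_of_le_of_lt ?_ h4
      exact_mod_cast Nat.lt_succ_iff.1 hm
    rw [ha i, Ideal.span_le, Set.singleton_subset_iff, SetLike.mem_coe, Ideal.mem_span_singleton] at hle
    have := le_order_of_X_pow_dvd _ _ hle
    rw [order_X_pow] at this
    have : a i + 1 ≤ a i := by exact_mod_cast this
    omega
  intro g hg
  exact s15146 s R c hc I a hl g hg

end Groth.Agent.Helper5.HilbZ
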